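import Cfsg.Agent.H554.BS.Tab
import Cfsg.Agent.H795.Untw
import Cfsg.Agent.H795.Tw
import Cfsg.Agent.H475.RV.Num

/-!
# TEAM RV, row R5 for `E₆, ²E₆`: 3-subgroups of the torus killed by the frame (helper475)

`Q` is a 3-subgroup of the torus `TT` of `E₆(k)`, fixed by the Frobenius endomorphism, and the four roots of the frame
`FE6 = [0, 11, 27, 32]` are trivial on `Q`.  Then `|Q| ≤ 3 ^ (2 a)` if `3 ∣ q - ε` and `Q = 1` otherwise.
-/

set_option autoImplicit false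
set_option linter.unusedSectionVars false

namespace Cfsg.Agent.H475.RV

open CoxeterSystem Cfsg Cfsg.Lie Cfsg.Lie.ChevalleyDatum
open Cfsg.Agent.ChevalleyStructure Cfsg.Agent.ChevalleyStructure.Elts Cfsg.Agent.ChevalleyStructure.CoxeterGeom
  Cfsg.Agent.ChevalleyStructure.CoxeterGeomTypes Cfsg.Agent.ChevalleyStructure.NPerm
open Cfsg.Agent.Tits.Roots Cfsg.Agent.Tits.Core Cfsg.Agent.Nodes Cfsg.Agent.Nodes.Reps Cfsg.Agent.Nodes.BNOf
  Cfsg.Agent.Nodes.RGDChev Cfsg.Agent.Nodes.Bruhat Cfsg.Agent.Nodes.NormalForm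
open Cfsg.Agent.KFacts.RgdField Cfsg.Agent.KFacts.RgdChevCoord
open Cfsg.Agent.BpExc Cfsg.Agent.BpExc.TorCent Cfsg.Agent.BpExc.TorChev Cfsg.Agent.BpExc.Tow
  Cfsg.Agent.BpExc.TowChev Cfsg.Agent.BpExc.Fr Cfsg.Agent.BpExc.Pair Cfsg.Agent.BpExc.LangFr Cfsg.Agent.GpExc.Field
  Cfsg.Agent.BpExc.TorAll
open Cfsg.Agent.H469.Exc Cfsg.Agent.H469.Exc.SigFr
open Cfsg.Agent.H167.EX Cfsg.Agent.H795.LangT Cfsg.Agent.H129.TorusChar Cfsg.Agent.H554.BS Cfsg.Agent.H720.TwFr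

universe u v

/-- coefficients: `2 α_i` in terms of the frame and of `α_0, α_2` -/
def cert : Fin 6 → Fin 6 → ℤ := ![
  ![0, 0, 0, 0, 2, 0],
  ![-1, 1, 1, 1, 0, 0],
  ![0, 0, 0, 0, 0, 2],
  ![0, 0, 0, -2, 0, 0],
  ![0, 0, -2, 2, 0, -2],
  ![0, -2, 2, 0, -2, 0]]

theorem cert_spec : ∀ i : Fin 6, (2 : ℤ) • (sr i : Fin 6 → ℤ) =
    cert i 0 • vec chevE6 6 0 + cert i 1 • vec chevE6 6 11 + cert i 2 • vec chevE6 6 27 +
    cert i 3 • vec chevE6 6 32 + cert i 4 • sr 0 + cert i 5 • sr 2 := by decide +kernel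

theorem rho_zero : permE rho6 (sr 0 : Fin 6 → ℤ) = -sr 0 - vec chevE6 6 11 + vec chevE6 6 27 := by decide +kernel
theorem rho_two : permE rho6 (sr 2 : Fin 6 → ℤ) = -sr 2 - vec chevE6 6 27 + vec chevE6 6 32 := by decide +kernel

variable {M : CoxeterMatrix (Fin 6)} (hp : IsType chevE6 6 M) {k : Type u} [Field k]

theorem cX_pow_gcd {t : ↥(chevE6.group k)} (ht : t ∈ TT chevE6 k) {j : ℕ} (hj : t ^ 3 ^ j = 1) {N : ℕ} (hN : N ≠ 0)
    {x : Fin 6 → ℤ} (hx : cX hp t x ^ N = 1) : cX hp t x ^ 3 ^ (N.factorization 3) = 1 := by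
  have h1 : cX hp t x ^ 3 ^ j = 1 := by rw [← cX_pow hp ht, hj, cX_one]
  have h2 : cX hp t x ^ Nat.gcd (3 ^ j) N = 1 := pow_gcd_eq_one.2 ⟨h1, hx⟩
  obtain ⟨i, -, hi⟩ := (Nat.dvd_prime_pow Nat.prime_three).1 (Nat.gcd_dvd_left (3 ^ j) N)
  have h3 : i ≤ N.factorization 3 := by
    rw [← Nat.prime_three.pow_dvd_iff_le_factorization hN, ← hi]
    exact Nat.gcd_dvd_right _ _
  rw [hi] at h2
  rw [← Nat.sub_add_cancel h3, pow_add, pow_mul', h2, one_pow]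

theorem eq_one_of {t : ↥(chevE6.group k)} (ht : t ∈ TT chevE6 k) {j : ℕ} (hj : t ^ 3 ^ j = 1)
    (h1 : ∀ s ∈ FE6, ch hp (vec chevE6 6 s) t = 1) (h0 : cX hp t (sr 0) = 1) (h2 : cX hp t (sr 2) = 1) : t = 1 := by
  have hMC := isMC_cX hp ht
  have hv : ∀ s ∈ FE6, cX hp t (vec chevE6 6 s) = 1 := by
    intro s hs
    rw [cX_vec hp ht (ltME6 s (by rw [ME6_eq]; exact List.mem_append_right _ hs)), h1 s hs]
  have e0 := hv 0 (by decide)
  have e1 := hv 11 (by decide)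
  have e2 := hv 27 (by decide)
  have e3 := hv 32 (by decide)
  refine cX_inj hp ht (one_mem _) fun i => ?_
  rw [cX_one]
  have h3 := congrArg (cX hp t) (cert_spec i)
  rw [hMC.add, hMC.add, hMC.add, hMC.add, hMC.add, hMC.zsmul, hMC.zsmul, hMC.zsmul, hMC.zsmul, hMC.zsmul, hMC.zsmul,
    hMC.zsmul, e0, e1, e2, e3, h0, h2] at h3
  simp only [one_zpow, mul_one] at h3
  have h4 : cX hp t (sr i) ^ 2 = 1 := by exact_mod_cast h3
  have h5 := cX_pow_gcd hp ht hj (N := 2) (by norm_num) h4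
  have h6 : Nat.factorization 2 3 = 0 := Nat.factorization_eq_zero_of_not_dvd (by norm_num)
  rw [h6, pow_zero, pow_one] at h5
  exact h5

/-- the bound -/
theorem card_le (Q : Subgroup ↥(chevE6.group k)) (hQ3 : IsPGroup 3 Q) (hQT : Q ≤ TT chevE6 k)
    (h1 : ∀ n ∈ Q, ∀ s ∈ FE6, ch hp (vec chevE6 6 s) n = 1) {N : ℕ} (hN : N ≠ 0)
    (hx : ∀ n ∈ Q, cX hp n (sr 0) ^ N = 1 ∧ cX hp n (sr 2) ^ N = 1) :
    Nat.card Q ≤ 3 ^ (2 * N.factorization 3) := by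
  classical
  set m := 3 ^ N.factorization 3 with hm
  have hm0 : NeZero m := ⟨pow_ne_zero _ (by norm_num)⟩
  have hj : ∀ n ∈ Q, ∃ j : ℕ, n ^ 3 ^ j = 1 := by
    intro n hn
    obtain ⟨j, hj⟩ := hQ3 ⟨n, hn⟩
    exact ⟨j, congrArg Subtype.val hj⟩
  have hc : ∀ n : Q, cX hp (n : ↥(chevE6.group k)) (sr 0) ^ m = 1 ∧ cX hp (n : ↥(chevE6.group k)) (sr 2) ^ m = 1 := by
    intro n
    obtain ⟨j, hj⟩ := hj n n.2
    exact ⟨cX_pow_gcd hp (hQT n.2) hj hN (hx n n.2).1, cX_pow_gcd hp (hQT n.2) hj hN (hx n n.2).2⟩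
  let f : Q → rootsOfUnity m k × rootsOfUnity m k := fun n =>
    (rootsOfUnity.mkOfPowEq _ (hc n).1, rootsOfUnity.mkOfPowEq _ (hc n).2)
  have hf : Function.Injective f := by
    intro a b hab
    have hab1 : cX hp (a : ↥(chevE6.group k)) (sr 0) = cX hp (b : ↥(chevE6.group k)) (sr 0) := by
      have := congrArg (fun z : rootsOfUnity m k × rootsOfUnity m k => ((z.1 : kˣ) : k)) hab
      simpa [f] using this
    have hab2 : cX hp (a : ↥(chevE6.group k)) (sr 2) = cX hp (b : ↥(chevE6.group k)) (sr 2) := by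
      have := congrArg (fun z : rootsOfUnity m k × rootsOfUnity m k => ((z.2 : kˣ) : k)) hab
      simpa [f] using this
    have ha := hQT a.2
    have hb := hQT b.2
    have hu : (a : ↥(chevE6.group k)) * (b : ↥(chevE6.group k))⁻¹ ∈ Q := mul_mem a.2 (inv_mem b.2)
    have key : ∀ x, cX hp (a : ↥(chevE6.group k)) x = cX hp (b : ↥(chevE6.group k)) x →
        cX hp ((a : ↥(chevE6.group k)) * (b : ↥(chevE6.group k))⁻¹) x = 1 := by
      intro x hx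
      rw [cX_mul hp ha (inv_mem hb), hx, ← cX_mul hp hb (inv_mem hb), mul_inv_cancel, cX_one]
    obtain ⟨j, hj⟩ := hj _ hu
    have h := eq_one_of hp (hQT hu) hj (h1 _ hu) (key _ hab1) (key _ hab2)
    exact Subtype.ext (mul_inv_eq_one.1 h)
  have hle := Nat.card_le_card_of_injective f hf
  rw [Nat.card_prod] at hle
  have h2 : Nat.card (rootsOfUnity m k) ≤ m := card_rootsOfUnity k m
  calc Nat.card Q ≤ Nat.card (rootsOfUnity m k) * Nat.card (rootsOfUnity m k) := hle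
    _ ≤ m * m := Nat.mul_le_mul h2 h2
    _ = 3 ^ (2 * N.factorization 3) := by rw [hm, ← pow_add, two_mul]

theorem fac_of_dvd {q : ℕ} (hq : 2 ≤ q) (h3 : 3 ∣ q - 1) : (q - 1).factorization 3 = a3 q := by
  have h := fac_sub hq h3 (n := 1) one_ne_zero
  rw [pow_one, Nat.factorization_one, Finsupp.zero_apply, add_zero] at h
  exact h

theorem fac_of_dvd' {q : ℕ} (hq : 2 ≤ q) (h3 : 3 ∣ q + 1) : (q + 1).factorization 3 = a3 q := by
  have h := fac_add hq h3 (n := 1) odd_one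
  rw [pow_one, Nat.factorization_one, Finsupp.zero_apply, add_zero] at h
  exact h

section split

variable (Q : Subgroup ↥(chevE6.group k)) (hQ3 : IsPGroup 3 Q) (hQT : Q ≤ TT chevE6 k)
  (h1 : ∀ n ∈ Q, ∀ s ∈ FE6, ch hp (vec chevE6 6 s) n = 1) {q : ℕ} (hq : 2 ≤ q)
  (hfix : ∀ n ∈ Q, ∀ x, cX hp n x = cX hp n x ^ q)

include hQ3 hQT h1 hq hfix

theorem card_le_untw' : Nat.card Q ≤ 3 ^ (2 * (q - 1).factorization 3) := by
  refine card_le hp Q hQ3 hQT h1 (by omega) ?_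
  have key : ∀ n ∈ Q, ∀ x, cX hp n x ^ (q - 1) = 1 := by
    intro n hn x
    have h2 := hfix n hn x
    have h0 := (isMC_cX hp (hQT hn)).ne_zero x
    have h3 : cX hp n x ^ (q - 1) * cX hp n x = 1 * cX hp n x := by
      rw [← pow_succ, Nat.sub_add_cancel (by omega), one_mul]
      exact h2.symm
    exact mul_right_cancel₀ h0 h3
  exact fun n hn => ⟨key n hn _, key n hn _⟩

/-- `E₆(q)`, `3 ∣ q - 1` -/
theorem card_le_untw (h3 : 3 ∣ q - 1) : Nat.card Q ≤ 3 ^ (2 * a3 q) := by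
  rw [← fac_of_dvd hq h3]
  exact card_le_untw' hp Q hQ3 hQT h1 hq hfix

/-- `E₆(q)`, `3 ∤ q - 1` -/
theorem card_le_one_untw (h3 : ¬ 3 ∣ q - 1) : Nat.card Q ≤ 1 := by
  have h := card_le_untw' hp Q hQ3 hQT h1 hq hfix
  rwa [Nat.factorization_eq_zero_of_not_dvd h3, mul_zero, pow_zero] at h

end split

section twisted

variable (Q : Subgroup ↥(chevE6.group k)) (hQ3 : IsPGroup 3 Q) (hQT : Q ≤ TT chevE6 k)
  (h1 : ∀ n ∈ Q, ∀ s ∈ FE6, ch hp (vec chevE6 6 s) n = 1) {q : ℕ} (hq : 2 ≤ q)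
  (hfix : ∀ n ∈ Q, ∀ x, cX hp n (permE rho6 x) = cX hp n x ^ q)

include hQ3 hQT h1 hq hfix

theorem card_le_tw' : Nat.card Q ≤ 3 ^ (2 * (q + 1).factorization 3) := by
  refine card_le hp Q hQ3 hQT h1 (by omega) ?_
  intro n hn
  have hMC := isMC_cX hp (hQT hn)
  have hv : ∀ s ∈ FE6, cX hp n (vec chevE6 6 s) = 1 := by
    intro s hs
    rw [cX_vec hp (hQT hn) (ltME6 s (by rw [ME6_eq]; exact List.mem_append_right _ hs)), h1 n hn s hs]
  have e1 := hv 11 (by decide)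
  have e2 := hv 27 (by decide)
  have e3 := hv 32 (by decide)
  constructor
  · have h2 := hfix n hn (sr 0)
    rw [rho_zero, hMC.add, sub_eq_add_neg, hMC.add, hMC.neg, hMC.neg, e1, e2, inv_one, mul_one, mul_one] at h2
    rw [pow_succ, ← h2, inv_mul_cancel₀ (hMC.ne_zero _)]
  · have h2 := hfix n hn (sr 2)
    rw [rho_two, hMC.add, sub_eq_add_neg, hMC.add, hMC.neg, hMC.neg, e2, e3, inv_one, mul_one, mul_one] at h2
    rw [pow_succ, ← h2, inv_mul_cancel₀ (hMC.ne_zero _)]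

/-- `²E₆(q)`, `3 ∣ q + 1` -/
theorem card_le_tw (h3 : 3 ∣ q + 1) : Nat.card Q ≤ 3 ^ (2 * a3 q) := by
  rw [← fac_of_dvd' hq h3]
  exact card_le_tw' hp Q hQ3 hQT h1 hq hfix

/-- `²E₆(q)`, `3 ∤ q + 1` -/
theorem card_le_one_tw (h3 : ¬ 3 ∣ q + 1) : Nat.card Q ≤ 1 := by
  have h := card_le_tw' hp Q hQ3 hQT h1 hq hfix
  rwa [Nat.factorization_eq_zero_of_not_dvd h3, mul_zero, pow_zero] at h

end twisted

/-! ### the counts with the Frobenius endomorphism -/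

section frob

variable [IsAlgClosed k] {p e : ℕ} [Fact p.Prime] [CharP k p] {σ : MulAut ↥(chevE6.group k)}
  (he : 0 < e) (hσ : IsFrob p e σ)
  (Q : Subgroup ↥(chevE6.group k)) (hQ3 : IsPGroup 3 Q) (hQT : Q ≤ TT chevE6 k)
  (h1 : ∀ n ∈ Q, ∀ s ∈ FE6, ch hp (vec chevE6 6 s) n = 1) (hQσ : ∀ n ∈ Q, σ n = n)

include he hσ hQ3 hQT h1 hQσ

theorem card_le_sigma (F : Fr M.toCoxeterSystem hp.isCartan (TT chevE6 k) (XX chevE6 6 k) σ (AddEquiv.refl _)) :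
    (3 ∣ p ^ e - 1 → Nat.card Q ≤ 3 ^ (2 * a3 (p ^ e))) ∧ (¬ 3 ∣ p ^ e - 1 → Nat.card Q ≤ 1) := by
  have hq : 2 ≤ p ^ e := (Nat.one_lt_pow he.ne' (Fact.out : p.Prime).one_lt)
  have hfix : ∀ n ∈ Q, ∀ x, cX hp n x = cX hp n x ^ p ^ e := by
    intro n hn x
    have h4 := cX_sigma hp M.toCoxeterSystem hσ F (hQT hn) x
    rwa [hQσ n hn] at h4
  exact ⟨card_le_untw hp Q hQ3 hQT h1 hq hfix, card_le_one_untw hp Q hQ3 hQT h1 hq hfix⟩

theorem card_le_sigma_tw (F : Fr M.toCoxeterSystem hp.isCartan (TT chevE6 k) (XX chevE6 6 k) σ (permE rho6)) :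
    (3 ∣ p ^ e + 1 → Nat.card Q ≤ 3 ^ (2 * a3 (p ^ e))) ∧ (¬ 3 ∣ p ^ e + 1 → Nat.card Q ≤ 1) := by
  have hq : 2 ≤ p ^ e := (Nat.one_lt_pow he.ne' (Fact.out : p.Prime).one_lt)
  have hfix : ∀ n ∈ Q, ∀ x, cX hp n (permE rho6 x) = cX hp n x ^ p ^ e := by
    intro n hn x
    have h4 := cX_sigma hp M.toCoxeterSystem hσ F (hQT hn) x
    rwa [hQσ n hn] at h4
  exact ⟨card_le_tw hp Q hQ3 hQT h1 hq hfix, card_le_one_tw hp Q hQ3 hQT h1 hq hfix⟩

end frob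

/-! ### the final bounds for row R5 -/

section final

open Cfsg.Agent.H795.Core Cfsg.Agent.H129.TorusUntw

/-- **`E₆(q)`** -/
theorem bound_E6 {F : Type u} [Field F] [Fintype F] {p : ℕ} [hpp : Fact p.Prime] [hFp : CharP F p] (hp3 : p ≠ 3) :
    ∃ c₀ : ℕ, 3 ^ 5 * c₀ < 3 ^ ((Nat.card ↥(chevE6.group F)).factorization 3) ∧
      ∀ Q : Subgroup ↥(chevE6.group F), IsPGroup 3 Q →
        (∀ n ∈ Q, emb hp6.inList (algebraMap F (AlgebraicClosure F)) n ∈ TT chevE6 (AlgebraicClosure F) ∧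
          ∀ s ∈ FE6, ch hp6 (vec chevE6 6 s) (emb hp6.inList (algebraMap F (AlgebraicClosure F)) n) = 1) →
        Nat.card Q ≤ c₀ := by
  obtain ⟨p', e, hp', hpF', hpk', he, hq, hk⟩ := exists_closure (F := F) rfl
  have hpe : p' = p := CharP.eq F hpF' hFp
  subst hpe
  set ι := emb hp6.inList (algebraMap F (AlgebraicClosure F)) with hι
  have hinj : Function.Injective ι := emb_injective hp6.inList _
  have hq2 : 2 ≤ Fintype.card F := two_le rfl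
  have hq3 : ¬ 3 ∣ Fintype.card F := by
    rw [hq]
    intro h
    exact hp3 ((Nat.prime_dvd_prime_iff_eq Nat.prime_three hpp.out).1 (Nat.prime_three.dvd_of_dvd_pow h)).symm
  have ha := one_le_a3 hq2 hq3
  have hfin : Finite ↥(chevE6.group F) := inferInstance
  have key : ∀ Q : Subgroup ↥(chevE6.group F), IsPGroup 3 Q →
        (∀ n ∈ Q, ι n ∈ TT chevE6 (AlgebraicClosure F) ∧ ∀ s ∈ FE6, ch hp6 (vec chevE6 6 s) (ι n) = 1) →
        (3 ∣ p' ^ e - 1 → Nat.card Q ≤ 3 ^ (2 * a3 (p' ^ e))) ∧ (¬ 3 ∣ p' ^ e - 1 → Nat.card Q ≤ 1) := by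
    intro Q hQ h
    have h1 := card_le_sigma hp6 he isFrob_phi (Q.map ι)
      (hQ.map ι) (by rintro _ ⟨n, hn, rfl⟩; exact (h n hn).1) (by rintro _ ⟨n, hn, rfl⟩; exact (h n hn).2)
      (by rintro _ ⟨n, hn, rfl⟩; exact phi_emb hp6 _ hq n) (fr_phi hp6 _)
    rwa [Subgroup.card_map_of_injective hinj] at h1
  by_cases h3 : 3 ∣ Fintype.card F - 1
  · refine ⟨3 ^ (2 * a3 (Fintype.card F)), ?_, fun Q hQ h => ?_⟩
    · have h4 : 6 * a3 (Fintype.card F) + 3 ≤ (Nat.card ↥(chevE6.group F)).factorization 3 :=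
        (Nat.prime_three.pow_dvd_iff_le_factorization Nat.card_pos.ne').1 (dvd_E6_of_dvd rfl h3)
      rw [← pow_add]
      exact Nat.pow_lt_pow_right (by norm_num) (by omega)
    · have := (key Q hQ h).1
      rw [← hq] at this
      exact this h3
  · refine ⟨1, ?_, fun Q hQ h => ?_⟩
    · have h4 : 4 * a3 (Fintype.card F) + 2 ≤ (Nat.card ↥(chevE6.group F)).factorization 3 :=
        (Nat.prime_three.pow_dvd_iff_le_factorization Nat.card_pos.ne').1 (dvd_E6_of_not rfl h3 hq3)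
      rw [mul_one]
      exact Nat.pow_lt_pow_right (by norm_num) (by omega)
    · have := (key Q hQ h).2
      rw [← hq] at this
      exact this h3

/-- **`²E₆(q)`** -/
theorem bound_TE6 {F : Type u} [Field F] [Fintype F] {p : ℕ} [hpp : Fact p.Prime] [hFp : CharP F p] (hp3 : p ≠ 3)
    {q : ℕ} (hqp : IsPrimePow q) (hF : Fintype.card F = q ^ 2) :
    ∃ c₀ : ℕ, 3 ^ 5 * c₀ < 3 ^ ((Nat.card ↥(twistedE6 F q)).factorization 3) ∧
      ∀ Q : Subgroup ↥(twistedE6 F q), IsPGroup 3 Q →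
        (∀ n ∈ Q, em6 q (algebraMap F (AlgebraicClosure F)) n ∈ TT chevE6 (AlgebraicClosure F) ∧
          ∀ s ∈ FE6, ch hp6 (vec chevE6 6 s) (em6 q (algebraMap F (AlgebraicClosure F)) n) = 1) →
        Nat.card Q ≤ c₀ := by
  obtain ⟨r, n, hr, hrF, hrk, hn0, hn, hk⟩ := Cfsg.Agent.H795.Tw.exists_closure_q (K := F) two_ne_zero hqp hF
  have hpe : r = p := CharP.eq F hrF hFp
  subst hpe
  set ι := em6 q (algebraMap F (AlgebraicClosure F)) with hι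
  have S := Cfsg.Agent.H795.Tw.setup_six (algebraMap F (AlgebraicClosure F)) r hk hn0 hn hF (p := 2) (by norm_num)
  have hinj : Function.Injective ι := S.inj
  have hq2 : 2 ≤ q := hqp.two_le
  have hq3 : ¬ 3 ∣ q := by
    rw [hn]
    intro h
    exact hp3 ((Nat.prime_dvd_prime_iff_eq Nat.prime_three hpp.out).1 (Nat.prime_three.dvd_of_dvd_pow h)).symm
  have ha := one_le_a3 hq2 hq3
  have hfin2 : Finite ↥(twistedE6 F q) := inferInstance
  have key : ∀ Q : Subgroup ↥(twistedE6 F q), IsPGroup 3 Q →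
        (∀ n ∈ Q, ι n ∈ TT chevE6 (AlgebraicClosure F) ∧ ∀ s ∈ FE6, ch hp6 (vec chevE6 6 s) (ι n) = 1) →
        (3 ∣ r ^ n + 1 → Nat.card Q ≤ 3 ^ (2 * a3 (r ^ n))) ∧ (¬ 3 ∣ r ^ n + 1 → Nat.card Q ≤ 1) := by
    intro Q hQ h
    have h1 := card_le_sigma_tw hp6 S.e_pos S.frob (Q.map ι)
      (hQ.map ι) (by rintro _ ⟨n, hn, rfl⟩; exact (h n hn).1) (by rintro _ ⟨n, hn, rfl⟩; exact (h n hn).2)
      (by rintro _ ⟨n, hn, rfl⟩; exact S.fix n) S.fr
    rwa [Subgroup.card_map_of_injective hinj] at h1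
  by_cases h3 : 3 ∣ q + 1
  · refine ⟨3 ^ (2 * a3 q), ?_, fun Q hQ h => ?_⟩
    · have h4 : 6 * a3 q + 3 ≤ (Nat.card ↥(twistedE6 F q)).factorization 3 :=
        (Nat.prime_three.pow_dvd_iff_le_factorization Nat.card_pos.ne').1 (dvd_TE6_of_dvd hqp hF h3)
      rw [← pow_add]
      exact Nat.pow_lt_pow_right (by norm_num) (by omega)
    · have := (key Q hQ h).1
      rw [← hn] at this
      exact this h3
  · refine ⟨1, ?_, fun Q hQ h => ?_⟩
    · have h4 : 4 * a3 q + 2 ≤ (Nat.card ↥(twistedE6 F q)).factorization 3 :=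
        (Nat.prime_three.pow_dvd_iff_le_factorization Nat.card_pos.ne').1 (dvd_TE6_of_not hqp hF h3 hq3)
      rw [mul_one]
      exact Nat.pow_lt_pow_right (by norm_num) (by omega)
    · have := (key Q hQ h).2
      rw [← hn] at this
      exact this h3

end final

end Cfsg.Agent.H475.RV
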